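import Groth.Agent.HyperplaneLib.Sections
import Groth.Agent.S3572
import Groth.Agent.S3573
import Groth.Agent.PnCoh.Chow.Proper
import Groth.Agent.PicClLib.Basic
import Groth.Agent.ProjUPX.TwistFrame

/-!
# A hyperplane is a projective space
-/

set_option autoImplicit false
set_option linter.style.haveILetI false
set_option backward.isDefEq.respectTransparency false
set_option backward.isDefEq.respectTransparency.types false
set_option maxHeartbeats 1000000

universe u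

open CategoryTheory AlgebraicGeometry TopologicalSpace Opposite
open Groth.Agent.AModX

noncomputable section

namespace Groth.Agent.HyperplaneLib

variable {X Y Z : Scheme.{u}}

theorem pullSec_add' (φ : X ⟶ Y) (L : Y.Modules) (x y : Γ(L, ⊤)) :
    ProjUP.pullSec φ L (x + y) = ProjUP.pullSec φ L x + ProjUP.pullSec φ L y :=
  map_add (((Scheme.Modules.pullbackPushforwardAdjunction φ).unit.app L).app ⊤).hom x y

theorem pullSec_smul' (φ : X ⟶ Y) (L : Y.Modules) (r : Γ(Y, ⊤)) (x : Γ(L, ⊤)) :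
    ProjUP.pullSec φ L (r • x) =
      (φ.appTop r • (ProjUP.pullSec φ L x : Γ((Scheme.Modules.pullback φ).obj L, ⊤)) : Γ((Scheme.Modules.pullback φ).obj L, ⊤)) :=
  Scheme.Modules.Hom.app_smul ((Scheme.Modules.pullbackPushforwardAdjunction φ).unit.app L) r x

theorem pullSec_lin {k : Type u} [CommRing k] (φ : X ⟶ Y) (L : Y.Modules) {qY : Y ⟶ Spec (CommRingCat.of k)}
    {qX : X ⟶ Spec (CommRingCat.of k)} (hq : φ ≫ qY = qX) {ι : Type*} [Fintype ι] (c : ι → k) (σ : ι → Γ(L, ⊤)) :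
    ProjUP.pullSec φ L (∑ i, ProjUP.toGlobal qY (c i) • σ i) =
      ∑ i, (ProjUP.toGlobal qX (c i) • (ProjUP.pullSec φ L (σ i) : Γ((Scheme.Modules.pullback φ).obj L, ⊤)) :
        Γ((Scheme.Modules.pullback φ).obj L, ⊤)) := by
  subst hq
  refine (map_sum (((Scheme.Modules.pullbackPushforwardAdjunction φ).unit.app L).app ⊤).hom
    (fun i => (ProjUP.toGlobal qY (c i) • σ i : Γ(L, ⊤))) Finset.univ).trans (Finset.sum_congr rfl fun i _ => ?_)
  exact pullSec_smul' φ L _ _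

theorem comp_app_pullSec (φ : X ⟶ Y) (ψ : Y ⟶ Z) (G : Z.Modules) (x : Γ(G, ⊤)) :
    ((Scheme.Modules.pullbackComp φ ψ).hom.app G).app ⊤
        (ProjUP.pullSec φ ((Scheme.Modules.pullback ψ).obj G) (ProjUP.pullSec ψ G x)) =
      ProjUP.pullSec (φ ≫ ψ) G x := by
  have h := ExistEasy.pullSec_comp φ ψ G (W := ⊤) (U := ⊤) (V := ⊤) le_top le_top x
  rwa [qPullSec_eq, qPullSec_eq, qPullSec_eq] at h

theorem comp_inv_app_pullSec (φ : X ⟶ Y) (ψ : Y ⟶ Z) (G : Z.Modules) (x : Γ(G, ⊤)) :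
    ((Scheme.Modules.pullbackComp φ ψ).inv.app G).app ⊤ (ProjUP.pullSec (φ ≫ ψ) G x) =
      ProjUP.pullSec φ ((Scheme.Modules.pullback ψ).obj G) (ProjUP.pullSec ψ G x) := by
  rw [← comp_app_pullSec]
  exact congr($(congrArg (fun t => Scheme.Modules.Hom.app t ⊤)
    ((Scheme.Modules.pullbackComp φ ψ).hom_inv_id_app G))
    (ProjUP.pullSec φ ((Scheme.Modules.pullback ψ).obj G) (ProjUP.pullSec ψ G x)))

theorem map_app_pullSec (φ : X ⟶ Y) {M N : Y.Modules} (t : M ⟶ N) (x : Γ(M, ⊤)) :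
    ((Scheme.Modules.pullback φ).map t).app ⊤ (ProjUP.pullSec φ M x) = ProjUP.pullSec φ N (t.app ⊤ x) := by
  have h := ExistEasy.pullSec_natural φ t (W := ⊤) (V := ⊤) le_top x
  rwa [qPullSec_eq, qPullSec_eq] at h

theorem id_app_pullSec (M : X.Modules) (x : Γ(M, ⊤)) :
    ((Scheme.Modules.pullbackId X).hom.app M).app ⊤ (ProjUP.pullSec (𝟙 X) M x) = x := by
  have h := congrArg (fun k => Scheme.Modules.Hom.app (NatTrans.app k M) (⊤ : X.Opens))
    (Scheme.Modules.conjugateEquiv_pullbackId_hom X)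
  simp only [conjugateEquiv_apply_app] at h
  exact congr($h x)

theorem congr_app_pullSec {φ ψ : X ⟶ Y} (h : φ = ψ) (G : Y.Modules) (x : Γ(G, ⊤)) :
    ((Scheme.Modules.pullbackCongr h).hom.app G).app ⊤ (ProjUP.pullSec φ G x) = ProjUP.pullSec ψ G x := by
  subst h
  rfl

theorem generatedBy_of_mem_span {L : X.Modules} {ι κ : Type*} {t : ι → ProjUP.Γm L} {s : κ → ProjUP.Γm L}
    (ht : ProjUP.GeneratedBy L t)
    (h : ∀ i, (t i : Γ(L, ⊤)) ∈ Submodule.span Γ(X, ⊤) (Set.range fun j => (s j : Γ(L, ⊤)))) :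
    ProjUP.GeneratedBy L s := by
  intro x
  rw [eq_top_iff, ← ht x, Submodule.span_le]
  rintro _ ⟨i, rfl⟩
  have hm := h i
  show L.presheaf.germ ⊤ x trivial (t i) ∈ _
  generalize (t i : Γ(L, ⊤)) = m at hm ⊢
  induction hm using Submodule.span_induction with
  | mem m hm =>
    obtain ⟨j, rfl⟩ := hm
    exact Submodule.subset_span ⟨j, rfl⟩
  | zero => rw [map_zero]; exact zero_mem _
  | add a b _ _ ha hb => rw [map_add]; exact add_mem ha hb
  | smul r a _ ha => rw [QCoh.germ_smul']; exact Submodule.smul_mem _ _ ha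

theorem isInvertible_O1 (N : ℕ) (k : Type u) [CommRing k] : PicF.IsInvertible (Twist.twistProjSpace N k 1) :=
  PnCoh.Finite.isInvertible_twist (𝒜 := CohB1.polyGrading N k)
    (fun i : Fin (N + 1) => (MvPolynomial.X i : MvPolynomial (Fin (N + 1)) k)) (fun i => ProjPt.X_mem i)
    (top_le_iff.1 fun y _ => TopologicalSpace.Opens.mem_iSup.2 (ProjUPX.cov_X y)) 1

theorem generatedBy_pullCoord {N : ℕ} {k : Type u} [CommRing k] (r : X ⟶ CohB1.ProjSpace N k) :
    ProjUP.GeneratedBy ((Scheme.Modules.pullback r).obj (Twist.twistProjSpace N k 1))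
      fun i => ProjUP.pullSec r (Twist.twistProjSpace N k 1) (ProjUP.coord N k i) :=
  ProjUPX.generatedBy_pullG (𝒜 := CohB1.polyGrading N k) r (T := fun i : Fin (N + 1) => MvPolynomial.X i)
    (fun i => ProjPt.X_mem i) ProjUPX.cov_X

/-- The comparison used to see that the two maps are inverse to each other. -/
theorem exists_iso_comp_id {P P' H : Scheme.{u}} (a : P ⟶ H) (b : H ⟶ P) (ι : H ⟶ P') (φ : P ⟶ P') (ha : a ≫ ι = φ)
    {O : P.Modules} {O' : P'.Modules} (τb : (Scheme.Modules.pullback b).obj O ≅ (Scheme.Modules.pullback ι).obj O')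
    (τ₀ : (Scheme.Modules.pullback φ).obj O' ≅ O) {κ : Type*} (x : κ → Γ(O, ⊤)) (y : κ → Γ(O', ⊤))
    (hb : ∀ i, τb.hom.app ⊤ (ProjUP.pullSec b O (x i)) = ProjUP.pullSec ι O' (y i))
    (h0 : ∀ i, τ₀.hom.app ⊤ (ProjUP.pullSec φ O' (y i)) = x i) :
    ∃ τ : (Scheme.Modules.pullback (a ≫ b)).obj O ≅ (Scheme.Modules.pullback (𝟙 P)).obj O,
      ∀ i, τ.hom.app ⊤ (ProjUP.pullSec (a ≫ b) O (x i)) = ProjUP.pullSec (𝟙 P) O (x i) := by
  let e1 := (Scheme.Modules.pullbackComp a b).symm.app O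
  let e2 := (Scheme.Modules.pullback a).mapIso τb
  let e3 := (Scheme.Modules.pullbackComp a ι).app O'
  let e4 := (Scheme.Modules.pullbackCongr ha).app O'
  let e6 := (Scheme.Modules.pullbackId P).symm.app O
  refine ⟨e1 ≪≫ e2 ≪≫ e3 ≪≫ e4 ≪≫ τ₀ ≪≫ e6, fun i => ?_⟩
  have v1 : e1.hom.app ⊤ (ProjUP.pullSec (a ≫ b) O (x i)) =
      ProjUP.pullSec a _ (ProjUP.pullSec b O (x i)) := comp_inv_app_pullSec a b O (x i)
  have v2 : e2.hom.app ⊤ (ProjUP.pullSec a _ (ProjUP.pullSec b O (x i))) =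
      ProjUP.pullSec a _ (ProjUP.pullSec ι O' (y i)) :=
    (map_app_pullSec a τb.hom _).trans (congrArg _ (hb i))
  have v3 : e3.hom.app ⊤ (ProjUP.pullSec a _ (ProjUP.pullSec ι O' (y i))) =
      ProjUP.pullSec (a ≫ ι) O' (y i) := comp_app_pullSec a ι O' (y i)
  have v4 : e4.hom.app ⊤ (ProjUP.pullSec (a ≫ ι) O' (y i)) = ProjUP.pullSec φ O' (y i) :=
    congr_app_pullSec ha O' (y i)
  have v6 : e6.hom.app ⊤ (x i) = ProjUP.pullSec (𝟙 P) O (x i) := by
    refine Eq.trans (congrArg (e6.hom.app ⊤) (id_app_pullSec O (x i)).symm) ?_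
    exact congr($(congrArg (fun f => Scheme.Modules.Hom.app f ⊤)
      ((Scheme.Modules.pullbackId P).hom_inv_id_app O)) (ProjUP.pullSec (𝟙 P) O (x i)))
  show e6.hom.app ⊤ (τ₀.hom.app ⊤ (e4.hom.app ⊤ (e3.hom.app ⊤ (e2.hom.app ⊤ (e1.hom.app ⊤
    (ProjUP.pullSec (a ≫ b) O (x i))))))) = _
  rw [v1, v2, v3, v4, h0 i, v6]

/-- A hyperplane is a projective space. -/
theorem exists_iso (k : Type u) [Field k] (n : ℕ)
    (s : Coh.structureModule (CohB1.ProjSpace (n + 1) k) ⟶ Twist.twistProjSpace (n + 1) k 1) (hs : s ≠ 0) :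
    ∃ φ : CohB1.ProjSpace n k ≅ (PicF2.zeroScheme _ s).subscheme,
      Nonempty ((Scheme.Modules.pullback (φ.hom ≫ (PicF2.zeroScheme _ s).subschemeι)).obj
          (Twist.twistProjSpace (n + 1) k 1) ≅ Twist.twistProjSpace n k 1) := by
  classical
  let q := CohB1.ProjSpace.toSpec n k
  let q' := CohB1.ProjSpace.toSpec (n + 1) k
  let O := Twist.twistProjSpace n k 1
  let O' := Twist.twistProjSpace (n + 1) k 1
  let ι := (PicF2.zeroScheme O' s).subschemeι
  let T : Fin (n + 2) → Γ(O', ⊤) := fun a => ProjUP.coord (n + 1) k a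
  let σ : Fin (n + 1) → Γ(O, ⊤) := fun a => ProjUP.coord n k a
  have hO' : PicF.IsInvertible O' := isInvertible_O1 (n + 1) k
  obtain ⟨c, hc⟩ := exists_sum_coord (n + 1) (PicF2.secVal O' s ⊤)
  have hc' : (PicF2.secVal O' s ⊤ : Γ(O', ⊤)) = ∑ a, (ProjUP.toGlobal q' (c a) • T a : Γ(O', ⊤)) := hc
  obtain ⟨p, hp⟩ : ∃ p, c p ≠ 0 := by
    by_contra! h
    refine hs (eq_zero_of_secVal s (hc'.trans ?_))
    exact Finset.sum_eq_zero fun a _ => by rw [h a, map_zero, zero_smul]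
  let d : Fin (n + 1) → k := fun i => -(c (p.succAbove i) / c p)
  -- the linear map of coordinates
  let t : Fin (n + 2) → Γ(O, ⊤) :=
    p.insertNth (α := fun _ => Γ(O, ⊤)) (∑ i, (ProjUP.toGlobal q (d i) • σ i : Γ(O, ⊤))) σ
  have htp : t p = ∑ i, (ProjUP.toGlobal q (d i) • σ i : Γ(O, ⊤)) := Fin.insertNth_apply_same _ _ _
  have hts : ∀ i, t (p.succAbove i) = σ i := fun i => Fin.insertNth_apply_succAbove _ _ _ _
  have hgen : ProjUP.GeneratedBy O t := by
    have h1 : ProjUP.GeneratedBy O σ := by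
      intro x
      have := generatedBy_pullCoord (N := n) (k := k) (𝟙 (CohB1.ProjSpace n k))
      exact ProjUPX.generatedBy_of_frames (L := O) _ (fun y => by
        obtain ⟨i, hi⟩ := ProjUPX.cov_X (n := n) (R := k) y
        exact ⟨i, _, hi, ProjUPX.isFrame_sec (𝒜 := CohB1.polyGrading n k) (ProjPt.X_mem i)⟩) x
    refine generatedBy_of_mem_span h1 fun i => Submodule.subset_span ⟨p.succAbove i, hts i⟩
  obtain ⟨φ₀, hφ₀, τ₀, hτ₀⟩ := S3572.result (n + 1) q O (isInvertible_O1 n k) t hgen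
  -- it lands in the hyperplane
  have key : ∀ (W : Scheme.{u}) (r : W ⟶ CohB1.ProjSpace (n + 1) k) (qW : W ⟶ Spec (CommRingCat.of k))
      (hr : r ≫ q' = qW),
      (ProjUP.pullSec r O' (PicF2.secVal O' s ⊤) : Γ((Scheme.Modules.pullback r).obj O', ⊤)) =
        (ProjUP.toGlobal qW (c p) • ((ProjUP.pullSec r O' (T p) : Γ((Scheme.Modules.pullback r).obj O', ⊤)) -
          ∑ i, (ProjUP.toGlobal qW (d i) • (ProjUP.pullSec r O' (T (p.succAbove i)) : Γ((Scheme.Modules.pullback r).obj O', ⊤)) :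
            Γ((Scheme.Modules.pullback r).obj O', ⊤))) : Γ((Scheme.Modules.pullback r).obj O', ⊤)) := by
    intro W r qW hr
    rw [hc', pullSec_lin r O' hr c T, Fin.sum_univ_succAbove _ p, smul_sub, Finset.smul_sum, sub_eq_add_neg,
      ← Finset.sum_neg_distrib]
    congr 1
    refine Finset.sum_congr rfl fun i _ => ?_
    rw [smul_smul, ← map_mul, ← neg_smul, ← map_neg]
    congr 2
    simp only [d, mul_neg, neg_neg]
    field_simp
  have hzero : ProjUP.pullSec φ₀ O' (PicF2.secVal O' s ⊤) = 0 := by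
    refine (key _ φ₀ q hφ₀).trans ?_
    refine Eq.trans (congrArg (ProjUP.toGlobal q (c p) • ·) (sub_eq_zero.2 ?_)) (smul_zero _)
    refine (ConcreteCategory.bijective_of_isIso (τ₀.hom.app ⊤)).1 ?_
    rw [map_sum]
    refine (hτ₀ p).trans (htp.trans (Finset.sum_congr rfl fun i _ => ?_))
    refine Eq.trans ?_ (Scheme.Modules.Hom.app_smul τ₀.hom _ _).symm
    exact congrArg (ProjUP.toGlobal q (d i) • ·) ((hτ₀ (p.succAbove i)).trans (hts i)).symm
  haveI : QuasiCompact φ₀ := by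
    haveI : QuasiCompact (φ₀ ≫ q') := by
      rw [hφ₀]
      haveI := PnCoh.Chow.isProper_toSpec n k
      infer_instance
    haveI := PnCoh.Chow.isProper_toSpec (n + 1) k
    exact QuasiCompact.of_comp φ₀ q'
  let a := IsClosedImmersion.lift ι φ₀ (by
    rw [Scheme.IdealSheafData.ker_subschemeι]
    exact zeroScheme_le_ker hO' s φ₀ hzero)
  have ha : a ≫ ι = φ₀ := IsClosedImmersion.lift_fac _ _ _
  -- the inverse
  let qH := ι ≫ q'
  let L := (Scheme.Modules.pullback ι).obj O'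
  let u : Fin (n + 1) → Γ(L, ⊤) := fun i => ProjUP.pullSec ι O' (T (p.succAbove i))
  have hrel : (ProjUP.pullSec ι O' (T p) : Γ(L, ⊤)) = ∑ i, (ProjUP.toGlobal qH (d i) • u i : Γ(L, ⊤)) := by
    have h1 := key _ ι qH rfl
    rw [pullSec_zeroScheme hO' s] at h1
    have hu : IsUnit (ProjUP.toGlobal qH (c p)) := (isUnit_iff_ne_zero.2 hp).map _
    exact sub_eq_zero.1 (hu.smul_eq_zero.1 h1.symm)
  have hgenL : ProjUP.GeneratedBy L u := by
    refine generatedBy_of_mem_span (generatedBy_pullCoord ι) fun j => ?_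
    rcases Fin.eq_self_or_eq_succAbove p j with rfl | ⟨i, rfl⟩
    · show (ProjUP.pullSec ι O' (T j) : Γ(L, ⊤)) ∈ _
      rw [hrel]
      exact Submodule.sum_mem _ fun i _ => Submodule.smul_mem _ _ (Submodule.subset_span ⟨i, rfl⟩)
    · exact Submodule.subset_span ⟨i, rfl⟩
  obtain ⟨b, hb, τb, hτb⟩ := S3572.result n qH L (PicClLib.isInvertible_pullback ι hO') u hgenL
  have hbφ : b ≫ φ₀ = ι := by
    let τ : (Scheme.Modules.pullback (b ≫ φ₀)).obj O' ≅ L :=
      (Scheme.Modules.pullbackComp b φ₀).symm.app O' ≪≫ (Scheme.Modules.pullback b).mapIso τ₀ ≪≫ τb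
    refine S3573.result (n + 1) (b ≫ φ₀) ι (by rw [Category.assoc, hφ₀, hb]) τ fun j => ?_
    show τb.hom.app ⊤ (((Scheme.Modules.pullback b).map τ₀.hom).app ⊤
      (((Scheme.Modules.pullbackComp b φ₀).inv.app O').app ⊤ (ProjUP.pullSec (b ≫ φ₀) O' (T j)))) =
      ProjUP.pullSec ι O' (T j)
    rw [comp_inv_app_pullSec, map_app_pullSec, hτ₀ j]
    rcases Fin.eq_self_or_eq_succAbove p j with rfl | ⟨i, rfl⟩
    · rw [htp, pullSec_lin b O hb d σ, map_sum, hrel]
      refine Finset.sum_congr rfl fun i _ => ?_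
      rw [Scheme.Modules.Hom.app_smul]
      exact congrArg _ (hτb i)
    · rw [hts]
      exact hτb i
  have h1 : b ≫ a = 𝟙 _ := by
    rw [← cancel_mono ι, Category.assoc, ha, hbφ, Category.id_comp]
  have h2 : a ≫ b = 𝟙 _ := by
    obtain ⟨τ, hτ⟩ := exists_iso_comp_id a b ι φ₀ ha τb τ₀ σ (fun i => T (p.succAbove i)) hτb
      fun i => (hτ₀ (p.succAbove i)).trans (hts i)
    exact S3573.result n (a ≫ b) (𝟙 _) (by rw [Category.assoc, hb, Category.id_comp, ← Category.assoc, ha, hφ₀]) τ hτ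
  exact ⟨⟨a, b, h2, h1⟩, ⟨(Scheme.Modules.pullbackCongr ha).app O' ≪≫ τ₀⟩⟩

end Groth.Agent.HyperplaneLib
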