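import Groth.Agent.PnCoh.TwistH0
import Groth.Agent.ProjUPX.Sections
import Groth.Agent.QCoh.Devissage
import Groth.Agent.ZeroSchX.Basic
import Groth.Agent.InvX.Tensor
import Groth.Agent.PBlow.Sect
import Groth.Agent.ExistEasy.PP.PullSec
import Groth.Prelude.Def_ProjUP
import Groth.Prelude.Def_PicF2

/-!
# Linear forms on projective space and morphisms into a zero scheme
-/

set_option autoImplicit false
set_option linter.style.haveILetI false
set_option backward.isDefEq.respectTransparency false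
set_option backward.isDefEq.respectTransparency.types false
set_option maxHeartbeats 1000000
set_option synthInstance.maxHeartbeats 400000

universe u

open CategoryTheory AlgebraicGeometry TopologicalSpace Opposite
open Groth.Agent.AModX

noncomputable section

namespace Groth.Agent.HyperplaneLib

variable {k : Type u} [CommRing k] (N : ℕ)

theorem eq_sum_coeff {p : MvPolynomial (Fin (N + 1)) k} (hp : p.IsHomogeneous 1) :
    p = ∑ a, p.coeff (Finsupp.single a 1) • MvPolynomial.X a := by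
  classical
  ext e
  simp only [MvPolynomial.coeff_sum, MvPolynomial.coeff_smul, MvPolynomial.coeff_X, smul_eq_mul, mul_ite,
    mul_one, mul_zero]
  by_cases he : e.degree = 1
  · obtain ⟨a, rfl⟩ := (Finsupp.sum_eq_one_iff e).1 (by simpa [Finsupp.degree_apply, Finsupp.sum] using he)
    simp [Finsupp.single_left_inj]
  · rw [hp.coeff_eq_zero he]
    refine (Finset.sum_eq_zero fun a _ => if_neg ?_).symm
    rintro rfl
    exact he (by simp)

/-- Global sections of `O(1)` are linear forms. -/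
theorem exists_sum_coord (t : ProjUP.Γm (Twist.twistProjSpace N k 1)) :
    ∃ c : Fin (N + 1) → k, t = ∑ a, (ProjUP.toGlobal (CohB1.ProjSpace.toSpec N k) (c a) •
      (ProjUP.coord N k a : Γ(Twist.twistProjSpace N k 1, ⊤)) : Γ(Twist.twistProjSpace N k 1, ⊤)) := by
  let P := CohB1.ProjSpace N k
  let O1 := Twist.twistProjSpace N k 1
  obtain ⟨p, hp⟩ := PnCoh.exists_globalOf_eq (ι := Fin (N + 1)) (R := k) (d := 1) t
  let F : Fin (N + 1) → MvPolynomial.homogeneousSubmodule (Fin (N + 1)) k 1 := fun a =>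
    ⟨MvPolynomial.X a, MvPolynomial.isHomogeneous_X k a⟩
  let c : Fin (N + 1) → k := fun a => p.1.coeff (Finsupp.single a 1)
  have hG : ∀ s : Finset (Fin (N + 1)), (PnCoh.globalOfEquiv (∑ a ∈ s, c a • F a) : Γ(O1, ⊤)) =
      ∑ a ∈ s, (ProjUP.toGlobal (CohB1.ProjSpace.toSpec N k) (c a) • (ProjUP.coord N k a : Γ(O1, ⊤)) : Γ(O1, ⊤)) := by
    intro s
    classical
    induction s using Finset.induction with
    | empty =>
      rw [Finset.sum_empty, Finset.sum_empty]
      have h := PnCoh.globalOf_add (ι := Fin (N + 1)) (R := k) (d := 1) 0 0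
      rw [add_zero] at h
      exact left_eq_add.1 h
    | insert a s ha ih =>
      rw [Finset.sum_insert ha, Finset.sum_insert ha, PnCoh.globalOf_add, ← ih]
      refine congrArg₂ (HAdd.hAdd (α := Γ(O1, ⊤)) (β := Γ(O1, ⊤))) ((PnCoh.globalOf_smul (c a) (F a)).trans ?_) rfl
      exact congrArg (fun r : Γ(P, ⊤) => r • (ProjUP.coord N k a : Γ(O1, ⊤)))
        (ConcreteCategory.congr_hom (P.presheaf.map_id (op ⊤)) _)
  refine ⟨c, ?_⟩
  rw [← hG, ← hp]
  refine congrArg (PnCoh.globalOfEquiv) (Subtype.ext ?_)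
  simp only [Submodule.coe_sum, Submodule.coe_smul, F]
  exact eq_sum_coeff N p.2

variable {X T : Scheme.{u}}

/-- A morphism from the structure module is determined by its global value. -/
theorem eq_zero_of_secVal {L : X.Modules} (s : Coh.structureModule X ⟶ L) (h : PicF2.secVal L s ⊤ = 0) :
    s = 0 := by
  refine Scheme.Modules.hom_ext _ _ fun W => ?_
  ext x
  have h1 : s.app W (1 : Γ(X, W)) = 0 := by
    have := ZeroSchX.res_sv s (le_top : W ≤ ⊤)
    rw [show ZeroSchX.sv s (⊤ : X.Opens) = 0 from h, map_zero] at this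
    exact this.symm
  have h2 := Scheme.Modules.Hom.app_smul (M := Coh.structureModule X) s (show Γ(X, W) from x) (1 : Γ(X, W))
  rw [h1, smul_zero] at h2
  exact (congrArg (s.app W) (mul_one (show Γ(X, W) from x)).symm).trans h2

theorem qPullSec_eq (φ : T ⟶ X) (L : X.Modules) (x : Γ(L, ⊤)) :
    QCoh.pullSec φ L (le_top : (⊤ : T.Opens) ≤ φ ⁻¹ᵁ ⊤) x = ProjUP.pullSec φ L x :=
  ConcreteCategory.congr_hom (((Scheme.Modules.pullback φ).obj L).presheaf.map_id (op ⊤)) _

theorem pullSec_secVal (φ : T ⟶ X) {L : X.Modules} (s : Coh.structureModule X ⟶ L) {W : T.Opens} {V : X.Opens}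
    (hle : W ≤ φ ⁻¹ᵁ V) : QCoh.pullSec φ L hle (ZeroSchX.sv s V) =
      res _ (le_top : W ≤ ⊤) (ProjUP.pullSec φ L (PicF2.secVal L s ⊤)) := by
  rw [← ZeroSchX.res_sv s (le_top : V ≤ ⊤), ← qPullSec_eq]
  exact (ExistEasy.pullSec_res φ L (le_top : V ≤ ⊤) (le_top : W ≤ ⊤) le_top hle _).symm

/-- A morphism killing a section factors through the zero scheme. -/
theorem zeroScheme_le_ker {L : X.Modules} (hL : PicF.IsInvertible L) (s : Coh.structureModule X ⟶ L)
    (φ : T ⟶ X) [QuasiCompact φ] (h : ProjUP.pullSec φ L (PicF2.secVal L s ⊤) = 0) :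
    PicF2.zeroScheme L s ≤ φ.ker := by
  intro V a ha
  rw [Scheme.Hom.ker_apply, RingHom.mem_ker]
  let J := PicF2.zeroScheme L s
  refine TopCat.Sheaf.eq_of_locally_eq' T.sheaf
    (fun p : {W : T.Opens // ∃ hW : W ≤ φ ⁻¹ᵁ V.1, resR hW (φ.app V.1 a) = 0} => p.1) _
    (fun p => homOfLE p.2.choose) (fun y hy => ?_) _ 0 fun p =>
      p.2.choose_spec.trans (map_zero (resR p.2.choose)).symm
  obtain ⟨U, hU, e, he⟩ := InvX.exists_frame hL (φ y)
  obtain ⟨_, ⟨W, hW, rfl⟩, hyW, hWU⟩ :=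
    X.isBasis_affineOpens.exists_subset_of_mem_open (show φ y ∈ V.1 ⊓ U from ⟨hy, hU⟩) (V.1 ⊓ U).2
  have hWV : W ≤ V.1 := fun z hz => (hWU hz).1
  have hWU' : W ≤ U := fun z hz => (hWU hz).2
  refine Opens.mem_iSup.2 ⟨⟨φ ⁻¹ᵁ W, φ.preimage_mono hWV, ?_⟩, hyW⟩
  obtain ⟨c, hc⟩ := ((he.res hWU') W le_rfl).2 (ZeroSchX.sv s W)
  have hc' : ZeroSchX.sv s W = c • res L hWU' e :=
    hc.symm.trans (congrArg (c • ·) (res_self _))
  have hmem : resR hWV a ∈ (J.ideal ⟨W, hW⟩) :=
    J.ideal_le_comap_ideal (U := ⟨W, hW⟩) (V := V) hWV ha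
  rw [ZeroSchX.ideal_zeroScheme hL, ZeroSchX.zeroIdealOn_eq_span s (he.res hWU') hc',
    Ideal.mem_span_singleton'] at hmem
  obtain ⟨b, hb⟩ := hmem
  have h0 : φ.app W c = 0 := by
    have h1 := congrArg (QCoh.pullSec φ L (le_refl (φ ⁻¹ᵁ W))) hc'
    rw [pullSec_secVal, h, map_zero, QCoh.pullSec_smul, ← Scheme.Hom.app_eq_appLE] at h1
    refine ((PBlow.isFrame_pullSec φ (le_refl (φ ⁻¹ᵁ W)) (he.res hWU')) _ le_rfl).1 ?_
    show φ.app W c • res _ _ _ = (0 : Γ(T, φ ⁻¹ᵁ W)) • res _ _ _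
    rw [res_self, zero_smul]
    exact h1.symm
  have hnat : resR (φ.preimage_mono hWV) (φ.app V.1 a) = φ.app W (resR hWV a) :=
    (ConcreteCategory.congr_hom (φ.naturality (homOfLE hWV).op) a).symm
  rw [hnat, ← hb, map_mul, h0, mul_zero]

/-- The section vanishes on its zero scheme. -/
theorem pullSec_zeroScheme {L : X.Modules} (hL : PicF.IsInvertible L) (s : Coh.structureModule X ⟶ L) :
    ProjUP.pullSec (PicF2.zeroScheme L s).subschemeι L (PicF2.secVal L s ⊤) = 0 := by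
  let J := PicF2.zeroScheme L s
  let ι := J.subschemeι
  refine eq_of_locally (M := (Scheme.Modules.pullback ι).obj L) _ _ fun y _ => ?_
  obtain ⟨U, hU, e, he⟩ := InvX.exists_frame hL (ι y)
  obtain ⟨_, ⟨W, hW, rfl⟩, hyW, hWU⟩ := X.isBasis_affineOpens.exists_subset_of_mem_open hU U.2
  refine ⟨ι ⁻¹ᵁ W, le_top, hyW, ?_⟩
  obtain ⟨c, hc⟩ := ((he.res hWU) W le_rfl).2 (ZeroSchX.sv s W)
  have hc' : ZeroSchX.sv s W = c • res L hWU e :=
    hc.symm.trans (congrArg (c • ·) (res_self _))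
  have h0 : ι.app W c = 0 := by
    have : c ∈ J.ideal ⟨W, hW⟩ := by
      rw [ZeroSchX.ideal_zeroScheme hL, ZeroSchX.zeroIdealOn_eq_span s (he.res hWU) hc']
      exact Ideal.mem_span_singleton_self c
    rw [← Scheme.IdealSheafData.ker_subschemeι J, Scheme.Hom.ker_apply] at this
    exact this
  rw [map_zero, ← pullSec_secVal ι s (le_refl (ι ⁻¹ᵁ W)), hc', QCoh.pullSec_smul, ← Scheme.Hom.app_eq_appLE,
    h0, zero_smul]

end Groth.Agent.HyperplaneLib
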